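import Mathlib

/-! # A Sylow 2-subgroup of M12 as a list of codes -/

set_option autoImplicit false

namespace Cfsg.Agent.H15.Out12

/-- codes of a Sylow 2-subgroup of M12 -/
def PL : List ℕ := [
  0x29df3a41d2ac50952d8db12e608062,
  0x29eb49b5c87de49558905b22608043,
  0x2aa6faa1cda46063d8925b2e908062,
  0x2aa957c9d09dda63ad88b122908043,
  0x2ae6fa41cdadd0cb1d3251a2400462,
  0x2aeb47c9c89c5acb28d03a6e400443,
  0x2bd47b11c65c5929d209aa2ed18820,
  0x2bd763a5cc55cd29d504a422d18801,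
  0x2ccea5b1c9b448d7d506a42f218820,
  0x2cecb519c43dd2d7d20caa23218801,
  0x2d0eab11c95dd90abe469b62810c20,
  0x2d176519cc3c530acda47cae810c01,
  0x2d5475b1c6b5c88a4da97ca3010c20,
  0x2d6cb3a5c4544c8a3e4c9b6f010c01,
  0x2d9f3aa1d2a5e045a8cd3a62c00462,
  0x2da959b5d07c64459d2851aec00443,
  0x71e6faa0ada5e0952d92b122600443,
  0x71e957c8b09c5a9558885b2e600462,
  0x729f3a40b2add063d88d5b22900443,
  0x72ab49b4a87c6463ad90b12e900462,
  0x72df3aa0b2a460cb1d2d51ae408043,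
  0x72e959b4b07de4cb28c83a62408062,
  0x73cea5b0a9b5c929d206aa22d10c01,
  0x73ecb518a43c5329d50ca42ed10c20,
  0x74d47b10a65dd8d7d509a423210c01,
  0x74d763a4ac544cd7d204aa2f210c20,
  0x751475b0a6b4490abe499b6e818801,
  0x752cb3a4a455cd0acdac7ca2818820,
  0x754eab10a95c588a4da67caf018801,
  0x75576518ac3dd28a3e449b63018820,
  0x75a6fa40adac5045a8d23a6ec08043,
  0x75ab47c8a89dda459d3051a2c08062,
  0x89df3ac2eda150655992591c918820,
  0x89e959cae87b9a652c90b30a918801,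
  0x8aa6fa22f2a96093ac8db31c618820,
  0x8aab47b6f09ba493d988590a618801,
  0x8adf3a22edaba04b2932398ac10c20,
  0x8aeb49caf0795a4b1cc8525cc10c01,
  0x8bd47592e9b158d9d606a21d208062,
  0x8becb39aec5392d9d104ac0b208043,
  0x8cceab32e6594927d109ac1cd08062,
  0x8cd76526e43b8d27d60ca20ad08043,
  0x8d147b32e95b888ace467b4b000462,
  0x8d17639ae451528abdac9c9d000443,
  0x8d4ea592e6b3990a3da99c8a800462,
  0x8d6cb526ec394d0a4e447b5c800443,
  0x8da6fac2f2a390c59ccd524a410c20,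
  0x8da957b6e89964c5a930399c410c01,
  0xb9e6fa2232aba065598d590a910c01,
  0xb9eb47b6309964652c88b31c910c20,
  0xba9f3ac22da39093ac92b30a610c01,
  0xbaa959ca28795a93d990591c610c20,
  0xbae6fac232a1504b292d399cc18801,
  0xbae957b6289ba44b1cd0524ac18820,
  0xbbceab32265b88d9d609a20b200443,
  0xbbd7652624394cd9d10cac1d200462,
  0xbcd4759229b39927d106ac0ad00443,
  0xbcecb39a2c515327d604a21cd00462,
  0xbd0ea59226b1588ace497b5d008043,
  0xbd2cb5262c3b8c8abda49c8b008062,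
  0xbd547b322959490a3da69c9c808043,
  0xbd57639a2453930a4e4c7b4a808062,
  0xbd9f3a222da960c59cd2525c418801,
  0xbdab49ca307b9ac5a928398a418820]

end Cfsg.Agent.H15.Out12
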