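import Cfsg.Agent.H15.MathCode

set_option autoImplicit false
set_option linter.all false
set_option maxRecDepth 100000

namespace Cfsg.Agent.H15.T.L11s

open Cfsg Cfsg.Agent.H7 Cfsg.Agent.H8 Cfsg.Agent.H15.MathCode

noncomputable def Dc : Nat := nat_lit 0xb0d064301703054081309808240108040000
noncomputable def D : Nat → Nat := fun i => Nat.land (Nat.shiftRight Dc (Nat.mul (nat_lit 9) i)) (nat_lit 511)
noncomputable def Cc : Nat := nat_lit 0x74d763a4ac544cd7d204aa2f210c202d5475b1c6b5c88a4da97ca3010c2075576518ac3dd28a3e449b630188202ccea5b1c9b448d7d506a42f21882089df3ac2eda150655992591c918820bae957b6289ba44b1cd0524ac18820baa959ca28795a93d990591c610c208adf3a22edaba04b2932398ac10c20b9eb47b6309964652c88b31c910c2073ecb518a43c5329d50ca42ed10c208aa6fa22f2a96093ac8db31c618820752cb3a4a455cd0acdac7ca28188202bd47b11c65c5929d209aa2ed188202d0eab11c95dd90abe469b62810c208da6fac2f2a390c59ccd524a410c20bdab49ca307b9ac5a928398a418820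
noncomputable def C : Nat → Nat := fun i => Nat.land (Nat.shiftRight Cc (Nat.mul (nat_lit 120) i)) (nat_lit 1329227995784915872903807060280344575)
noncomputable def Sc : Nat := nat_lit 0xa97185bd4f6e2c3
noncomputable def S : Nat → Nat := fun i => Nat.land (Nat.shiftRight Sc (Nat.mul (nat_lit 4) i)) (nat_lit 15)
def Y0 : Nat := nat_lit 0x8da6fac2f2a390c59ccd524a410c20
def Y1 : Nat := nat_lit 0x2d0eab11c95dd90abe469b62810c20
noncomputable def Y : Nat → Nat := fun l0 => @Nat.rec (fun _ => Nat) (Y0) (fun l1 _ => Y1) l0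
theorem okY0 : isPermCode Y0 = true := by decide +kernel
theorem okY1 : isPermCode Y1 = true := by decide +kernel
theorem ckc : allR (ckC C D Y (nat_lit 2)) (nat_lit 0) (nat_lit 15) = true := by decide +kernel
theorem cks : allR (ckS C S (nat_lit 16)) (nat_lit 0) (nat_lit 15) = true := by decide +kernel

theorem lower (P : Subgroup (Equiv.Perm GolayPt)) (h0 : mkPerm Y0 ∈ P) (h1 : mkPerm Y1 ∈ P) :
    16 ≤ Nat.card P :=
  card_ge_codes P 15 2 C D Y S (by
    intro l hl
    interval_cases l
    · exact ⟨okY0, h0⟩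
    · exact ⟨okY1, h1⟩
    ) (by decide +kernel) ckc cks

end Cfsg.Agent.H15.T.L11s
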