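import Cfsg.Agent.H15.MathCode

set_option autoImplicit false
set_option linter.all false
set_option maxRecDepth 100000

namespace Cfsg.Agent.H15.T.L12x

open Cfsg Cfsg.Agent.H7 Cfsg.Agent.H8 Cfsg.Agent.H15.MathCode

noncomputable def Dc : Nat := nat_lit 0x2c1a8621805c0685a06056148101400e1380c0284a02048018441100210800100000
noncomputable def D : Nat → Nat := fun i => Nat.land (Nat.shiftRight Dc (Nat.mul (nat_lit 10) i)) (nat_lit 1023)
noncomputable def Cc : Nat := nat_lit 0x3bab72ca627aa045d920a222363426a2aa78c8ad7d8435b926b826c240282d2b3b254d7dc4c59c208a1c41c2468dea5726d079da45d0269814360a48a59e72ca645b980aa922bc22640c2dbb9f48c8a35a886ad92d38a680303054d6e386e0a95107c643b12826992cb46aa386f07cda3596407228c2092674eb6a04e27960c5c646502e41b52889de5b254c5d060adc2d989c6412509d1f1726c45dd86a9c302b54800e42ba9742ca60ad9027b9243b22d818232ddf3525c359c88ad0228c2c03324d3d9778c8a6ab80d7a923a12701202c715f6386e35c480ace505368643122545eea04ec5cc66a9642b42e80112d9dd71b2540a9d0d7d02c28dd011a44b4deab868459588ac64d708e030d3029d73726c6ad0107dc248b1426a2438d165525c8adcc279c23992cd8024c3a9f79ca2c5d868ab930a34a031022b156aa04e6ac4027ce4c70eed8212474576b8688acccd79644530f01012399eb1525c27d2035dc2829acc23640a39679ca28aa8d07d92cb8ca268024516aeb868d7c4445ce48b18e364120bdab49ca307b9ac5a928398a418820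
noncomputable def C : Nat → Nat := fun i => Nat.land (Nat.shiftRight Cc (Nat.mul (nat_lit 120) i)) (nat_lit 1329227995784915872903807060280344575)
noncomputable def Sc : Nat := nat_lit 0x2af4ccb6165501dcf191194585ba33b08
noncomputable def S : Nat → Nat := fun i => Nat.land (Nat.shiftRight Sc (Nat.mul (nat_lit 5) i)) (nat_lit 31)
def Y0 : Nat := nat_lit 0x516aeb868d7c4445ce48b18e364120
def Y1 : Nat := nat_lit 0xa39679ca28aa8d07d92cb8ca268024
noncomputable def Y : Nat → Nat := fun l0 => @Nat.rec (fun _ => Nat) (Y0) (fun l1 _ => Y1) l0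
theorem okY0 : isPermCode Y0 = true := by decide +kernel
theorem okY1 : isPermCode Y1 = true := by decide +kernel
theorem ckc : allR (ckC C D Y (nat_lit 2)) (nat_lit 0) (nat_lit 26) = true := by decide +kernel
theorem cks : allR (ckS C S (nat_lit 27)) (nat_lit 0) (nat_lit 26) = true := by decide +kernel

theorem lower (P : Subgroup (Equiv.Perm GolayPt)) (h0 : mkPerm Y0 ∈ P) (h1 : mkPerm Y1 ∈ P) :
    27 ≤ Nat.card P :=
  card_ge_codes P 26 2 C D Y S (by
    intro l hl
    interval_cases l
    · exact ⟨okY0, h0⟩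
    · exact ⟨okY1, h1⟩
    ) (by decide +kernel) ckc cks

end Cfsg.Agent.H15.T.L12x
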