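import Cfsg.Agent.H15.MathCode

set_option autoImplicit false
set_option linter.all false
set_option maxRecDepth 100000

namespace Cfsg.Agent.H15.T.L24x

open Cfsg Cfsg.Agent.H7 Cfsg.Agent.H8 Cfsg.Agent.H15.MathCode

noncomputable def Dc : Nat := nat_lit 0x2c1a8621805c0685a06056148101400e1380c0284a02048018441100210800100000
noncomputable def D : Nat → Nat := fun i => Nat.land (Nat.shiftRight Dc (Nat.mul (nat_lit 10) i)) (nat_lit 1023)
noncomputable def Cc : Nat := nat_lit 0x8ea735cb1a3ac25aa6c7a6046a240936af486053b8685a8c2a4e24b32e0785d689d026aee6a9213195809268aa49c32bd88b2c29a92266c040bccea385c39d205b2ee2aa92c69a24921e07c9cd31e301ac28aaa62b24a4bb2807ddc341cd3b2e51a80506b12a096841bd7715926954f1701900a26aa15a46d16140e69bd5e570051930ca3c2c4b3d6183588bd4e6710b394440a246a1d1728d84c0d5e971206b95003cdaa19d614da30bd682728cc94ca47a1a069d7728d0295693712290c18079aca6bd7298cb10d4e872922b9a04a32c0b8eaf64a693bad158110a08ca694240b6b415cd37b865581913a12ab42440daaf2dc4c3b9a659233a41001a64a95aa740526a39b0580457b26a1c6e490eb4805027bac9590a63c5806ceeabb6a78c988a38735920979440b182aa5dd64bcb16ae4caa8c81ce04088e0a05cd63d261aee5a8111b0a6a940e43c9d6152696ac30a81851a0cabc5e43ddcd8504c1ae53a90a9b4500099eab517733605955ec72a680a62438860b1d72634d30d69070105b892a7c464bdab49ca307b9ac5a928398a418820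
noncomputable def C : Nat → Nat := fun i => Nat.land (Nat.shiftRight Cc (Nat.mul (nat_lit 120) i)) (nat_lit 1329227995784915872903807060280344575)
noncomputable def Sc : Nat := nat_lit 0xec14426b9539452b8935c325a137a97a
noncomputable def S : Nat → Nat := fun i => Nat.land (Nat.shiftRight Sc (Nat.mul (nat_lit 5) i)) (nat_lit 31)
def Y0 : Nat := nat_lit 0xb1d72634d30d69070105b892a7c464
def Y1 : Nat := nat_lit 0xb517733605955ec72a680a62438860
noncomputable def Y : Nat → Nat := fun l0 => @Nat.rec (fun _ => Nat) (Y0) (fun l1 _ => Y1) l0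
theorem okY0 : isPermCode Y0 = true := by decide +kernel
theorem okY1 : isPermCode Y1 = true := by decide +kernel
theorem ckc : allR (ckC C D Y (nat_lit 2)) (nat_lit 0) (nat_lit 26) = true := by decide +kernel
theorem cks : allR (ckS C S (nat_lit 27)) (nat_lit 0) (nat_lit 26) = true := by decide +kernel

theorem lower (P : Subgroup (Equiv.Perm GolayPt)) (h0 : mkPerm Y0 ∈ P) (h1 : mkPerm Y1 ∈ P) :
    27 ≤ Nat.card P :=
  card_ge_codes P 26 2 C D Y S (by
    intro l hl
    interval_cases l
    · exact ⟨okY0, h0⟩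
    · exact ⟨okY1, h1⟩
    ) (by decide +kernel) ckc cks

end Cfsg.Agent.H15.T.L24x
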