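import Cfsg.Agent.H15.MathCode

set_option autoImplicit false
set_option linter.all false
set_option maxRecDepth 100000

namespace Cfsg.Agent.H15.T.S12t

open Cfsg Cfsg.Agent.H7 Cfsg.Agent.H8 Cfsg.Agent.H15.MathCode

noncomputable def E0c : Nat := nat_lit 0x63da3c77fafe63163242d6346350297376f842673a6fb02262842557942701e21d0767af52c5734ee01821707041b21541906b3aa01156121059f0643a300c3a000b20e20a05c39a00835320705605439200404f38d002203049385046000041
noncomputable def E0 : Nat → Nat := fun i => Nat.land (Nat.shiftRight E0c (Nat.mul (nat_lit 12) i)) (nat_lit 4095)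
noncomputable def E1c : Nat := nat_lit 0x3a03603403002f07f02c02a22b07e02807d02502322407c07b02001f0792f707801c07501a0190732f107201601506e06d01221406901006706600d20f0620612dd00a05e00905b2d700705800600505305100304e04c04b001048000044042
noncomputable def E1 : Nat → Nat := fun i => Nat.land (Nat.shiftRight E1c (Nat.mul (nat_lit 12) i)) (nat_lit 4095)
noncomputable def E2c : Nat := nat_lit 0x83c83d8fe93f83002d6326330298359360266f87390228fb02142407a01e42701c07701b52b0740184ee01607106f01401306c01106a06800f00e06500c06300b06005f00905d00805a05900605705500405205000204d00104a000047045043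
noncomputable def E2 : Nat → Nat := fun i => Nat.land (Nat.shiftRight E2c (Nat.mul (nat_lit 12) i)) (nat_lit 4095)
noncomputable def Dc : Nat := nat_lit 0xe83b0740e01bc368ac0d41a4548280cc294318621440845005f0bc2780e09c0b62682c8581300584b0550a824c490511220402788e11a1304600b116028248890902200384610c1142208400610841001102100400400000
noncomputable def D : Nat → Nat := fun i => Nat.land (Nat.shiftRight Dc (Nat.mul (nat_lit 11) i)) (nat_lit 2047)
noncomputable def E : Nat → Nat → Nat := fun l0 => @Nat.rec (fun _ => Nat → Nat) (E0) (fun l1 _ => @Nat.rec (fun _ => Nat → Nat) (E1) (fun l2 _ => E2) l1) l0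
noncomputable def inv : Nat → Nat := fun l => l
def rels2 : List (List Nat × Nat) := [([0, 1, 2], 4), ([0, 1, 2, 1], 2), ([0, 2], 2)]
def rels : List (List Nat) := rels2.map (fun p => wpow p.1 p.2)
def RW0 : List (List Nat) := [[2, 1, 0, 2, 1, 0, 2, 1, 0, 2, 1], [1, 2, 0, 1, 2, 0, 1, 2, 0, 1, 2], [1, 2, 1, 0, 1, 2, 1], [2, 0, 2]]
noncomputable def RF0 : List (List (Nat → Nat)) := [[E2, E1, E0, E2, E1, E0, E2, E1, E0, E2, E1], [E1, E2, E0, E1, E2, E0, E1, E2, E0, E1, E2], [E1, E2, E1, E0, E1, E2, E1], [E2, E0, E2]]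
def RC0 : List Nat := [1, 0, 512, 1024]
def RW1 : List (List Nat) := [[0, 1, 2, 1, 0, 1, 2]]
noncomputable def RF1 : List (List (Nat → Nat)) := [[E0, E1, E2, E1, E0, E1, E2]]
def RC1 : List Nat := [515]
def RW2 : List (List Nat) := [[0, 1, 2, 0, 1, 2, 0, 1, 2, 0, 1], [1, 0, 2, 1, 0, 2, 1, 0, 2, 1, 0]]
noncomputable def RF2 : List (List (Nat → Nat)) := [[E0, E1, E2, E0, E1, E2, E0, E1, E2, E0, E1], [E1, E0, E2, E1, E0, E2, E1, E0, E2, E1, E0]]
def RC2 : List Nat := [4, 5]
def RW : Nat → List (List Nat) := fun l0 => @Nat.rec (fun _ => List (List Nat)) (RW0) (fun l1 _ => @Nat.rec (fun _ => List (List Nat)) (RW1) (fun l2 _ => RW2) l1) l0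
def sp : List Nat := []
theorem ck0 : allR (ckE (nat_lit 64) (nat_lit 63) (nat_lit 6) (nat_lit 7) (nat_lit 9) (nat_lit 0) D E0 E0 RF0 sp) (nat_lit 0) (nat_lit 64) = true := by decide +kernel
theorem rf0 : RF0 = (RW0).map (·.map E) := rfl
theorem rc0 : ckRels 3 inv rels 0 RW0 RC0 = true := by decide +kernel
theorem ck1 : allR (ckE (nat_lit 64) (nat_lit 63) (nat_lit 6) (nat_lit 7) (nat_lit 9) (nat_lit 1) D E1 E1 RF1 sp) (nat_lit 0) (nat_lit 64) = true := by decide +kernel
theorem rf1 : RF1 = (RW1).map (·.map E) := rfl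
theorem rc1 : ckRels 3 inv rels 1 RW1 RC1 = true := by decide +kernel
theorem ck2 : allR (ckE (nat_lit 64) (nat_lit 63) (nat_lit 6) (nat_lit 7) (nat_lit 9) (nat_lit 2) D E2 E2 RF2 sp) (nat_lit 0) (nat_lit 64) = true := by decide +kernel
theorem rf2 : RF2 = (RW2).map (·.map E) := rfl
theorem rc2 : ckRels 3 inv rels 2 RW2 RC2 = true := by decide +kernel

theorem edgeOK : ∀ l < 3, ∀ i < 64, EdgeOK E 63 64 9 6 7 inv D RW sp l i := by
  intro l hl i hi
  interval_cases l
  · exact ckE_sound 64 63 6 7 9 0 inv D E RW sp i (by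
      have := allR_zero _ _ ck0 i hi
      rw [rf0] at this
      exact this)
  · exact ckE_sound 64 63 6 7 9 1 inv D E RW sp i (by
      have := allR_zero _ _ ck1 i hi
      rw [rf1] at this
      exact this)
  · exact ckE_sound 64 63 6 7 9 2 inv D E RW sp i (by
      have := allR_zero _ _ ck2 i hi
      rw [rf2] at this
      exact this)

theorem htgt : ∀ l < 3, ∀ i < 64, Nat.land (E l i) 63 < 64 := fun l hl i hi => (edgeOK l hl i hi).1

theorem edges {G : Type*} [Group G] (H : Subgroup G) (s : Nat → G) (hinv : ∀ l, s l = (s l)⁻¹)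
    (hrels : ∀ W ∈ rels, (W.map s).prod = 1) :
    ∀ l < 3, ∀ i < 64, EdgeP H s (repOf s D) E 63 l i := by
  refine edges_correct H s E 63 64 3 9 6 7 inv D RW sp (by decide) (fun l hl => hl) (fun l _ => hinv l)
    ?_ ?_ ?_ edgeOK
  · intro l hl w hw
    interval_cases l
    · exact (ckRels_sound 3 inv rels 0 RW0 RC0 rc0 w hw).1
    · exact (ckRels_sound 3 inv rels 1 RW1 RC1 rc1 w hw).1
    · exact (ckRels_sound 3 inv rels 2 RW2 RC2 rc2 w hw).1
  · intro l hl w hw
    interval_cases l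
    · obtain ⟨_, c, hc⟩ := ckRels_sound 3 inv rels 0 RW0 RC0 rc0 w hw
      exact ckRel_sound s inv rels hrels 0 w c (fun l' _ => hinv l') hc
    · obtain ⟨_, c, hc⟩ := ckRels_sound 3 inv rels 1 RW1 RC1 rc1 w hw
      exact ckRel_sound s inv rels hrels 1 w c (fun l' _ => hinv l') hc
    · obtain ⟨_, c, hc⟩ := ckRels_sound 3 inv rels 2 RW2 RC2 rc2 w hw
      exact ckRel_sound s inv rels hrels 2 w c (fun l' _ => hinv l') hc
  · intro l _ i _ hc
    exact absurd hc List.not_mem_nil

theorem upper {G : Type*} [Group G] (s : Nat → G) (hinv : ∀ l, s l = (s l)⁻¹)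
    (hrels2 : ∀ p ∈ rels2, ((p.1.map s).prod) ^ p.2 = 1) :
    Finite (letterGroup s 3) ∧ Nat.card (letterGroup s 3) ≤ 64 := by
  have h := card_le_of_cover (⊥ : Subgroup G) (repOf s D) 64 (by decide) (repOf_zero s D) _
    (cover ⊥ s (repOf s D) E 63 64 3 inv (fun l hl => hl) (fun l _ => hinv l) htgt
      (edges ⊥ s hinv (hrels_of s rels2 hrels2))) inferInstance
  refine ⟨h.1, ?_⟩
  have e1 : Nat.card (⊥ : Subgroup G) = 1 := by simp
  rw [e1, mul_one] at h
  exact h.2

noncomputable def Cc : Nat := nat_lit 0x2da959b5d07c64459d2851aec00443bae957b6289ba44b1cd0524ac188208cceab32e6594927d109ac1cd0806273cea5b0a9b5c929d206aa22d10c0172ab49b4a87c6463ad90b12e90046275a6fa40adac5045a8d23a6ec08043bae6fac232a1504b292d399cc1880129eb49b5c87de49558905b226080432d9f3aa1d2a5e045a8cd3a62c004628adf3a22edaba04b2932398ac10c20bd547b322959490a3da69c9c808043bcecb39a2c515327d604a21cd0046273ecb518a43c5329d50ca42ed10c208d147b32e95b888ace467b4b0004628cd76526e43b8d27d60ca20ad080432bd763a5cc5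5cd29d504a422d188012aa6faa1cda46063d8925b2e9080628da957b6e89964c5a930399c410c012d5475b1c6b5c88a4da97ca3010c208aeb49caf0795a4b1cc8525cc10c0175ab47c8a89dda459d3051a2c0806271e6faa0ada5e0952d92b122600443751475b0a6b4490abe499b6e8188018d6cb526ec394d0a4e447b5c8004432ccea5b1c9b448d7d506a42f2188208aab47b6f09ba493d988590a6188012bd47b11c65c5929d209aa2ed18820bcd4759229b39927d106ac0ad00443bd2cb5262c3b8c8abda49c8b008062b9eb47b6309964652c88b31c910c20752cb3a4a455cd0acdac7ca2818820bd9f3a222da960c59cd2525c41880175576518ac3dd28a3e449b63018820bbceab32265b88d9d609a20b200443bd57639a2453930a4e4c7b4a8080622d176519cc3c530acda47cae810c01b9e6fa2232aba065598d590a910c0174d763a4ac544cd7d204aa2f210c20ba9f3ac22da39093ac92b30a610c0172e959b4b07de4cb28c83a62408062729f3a40b2add063d88d5b2290044389df3ac2eda150655992591c9188202d0eab11c95dd90abe469b62810c208d4ea592e6b3990a3da99c8a80046229df3a41d2ac50952d8db12e6080628becb39aec5392d9d104ac0b2080438aa6fa22f2a96093ac8db31c61882089e959cae87b9a652c90b30a9188012aa957c9d09dda63ad88b1229080438d17639ae451528abdac9c9d0004432ae6fa41cdadd0cb1d3251a24004622d6cb3a5c4544c8a3e4c9b6f010c0172df3aa0b2a460cb1d2d51ae40804371e957c8b09c5a9558885b2e600462baa959ca28795a93d990591c610c20bbd7652624394cd9d10cac1d200462bd0ea59226b1588ace497b5d008043754eab10a95c588a4da67caf0188012aeb47c9c89c5acb28d03a6e4004432cecb519c43dd2d7d20caa232188018bd47592e9b158d9d606a21d2080628da6fac2f2a390c59ccd524a410c2074d47b10a65dd8d7d509a423210c01bdab49ca307b9ac5a928398a418820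
noncomputable def C : Nat → Nat := fun i => Nat.land (Nat.shiftRight Cc (Nat.mul (nat_lit 120) i)) (nat_lit 1329227995784915872903807060280344575)
noncomputable def Sc : Nat := nat_lit 0x207758c7d2421efb925989bb82a143b2c7d483b36991416afa7c6869681cfc60bed72aaff732d715127c2514d3efe13
noncomputable def S : Nat → Nat := fun i => Nat.land (Nat.shiftRight Sc (Nat.mul (nat_lit 6) i)) (nat_lit 63)
def Y0 : Nat := nat_lit 0x74d47b10a65dd8d7d509a423210c01
def Y1 : Nat := nat_lit 0x8da6fac2f2a390c59ccd524a410c20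
def Y2 : Nat := nat_lit 0x8bd47592e9b158d9d606a21d208062
noncomputable def Y : Nat → Nat := fun l0 => @Nat.rec (fun _ => Nat) (Y0) (fun l1 _ => @Nat.rec (fun _ => Nat) (Y1) (fun l2 _ => Y2) l1) l0
theorem okY0 : isPermCode Y0 = true := by decide +kernel
theorem okY1 : isPermCode Y1 = true := by decide +kernel
theorem okY2 : isPermCode Y2 = true := by decide +kernel
theorem ckc : allR (ckC C D Y (nat_lit 3)) (nat_lit 0) (nat_lit 63) = true := by decide +kernel
theorem cks : allR (ckS C S (nat_lit 64)) (nat_lit 0) (nat_lit 63) = true := by decide +kernel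

theorem lower (P : Subgroup (Equiv.Perm GolayPt)) (h0 : mkPerm Y0 ∈ P) (h1 : mkPerm Y1 ∈ P) (h2 : mkPerm Y2 ∈ P) :
    64 ≤ Nat.card P :=
  card_ge_codes P 63 3 C D Y S (by
    intro l hl
    interval_cases l
    · exact ⟨okY0, h0⟩
    · exact ⟨okY1, h1⟩
    · exact ⟨okY2, h2⟩
    ) (by decide +kernel) ckc cks

end Cfsg.Agent.H15.T.S12t
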